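import Cfsg.Agent.BiChar.Rows
import Cfsg.Agent.ETable.Base

/-!
# S1798: `e(A_n) ≥ 4` for `n ≥ 13` (helper11)

`V₄` on four letters is normalized by a 3-cycle on three of them and by three disjoint 3-cycles on nine other letters.
-/

set_option autoImplicit false

namespace Cfsg.Agent.BiChar.AltWide

open Cfsg Cfsg.Agent.SevenCases Cfsg.Agent.ETable Equiv

universe u

/-- a four-group -/
def four {G : Type*} [Group G] (a b : G) (ha : a * a = 1) (hb : b * b = 1) (hab : a * b = b * a) : Subgroup G where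
  carrier := {x | x = 1 ∨ x = a ∨ x = b ∨ x = a * b}
  one_mem' := Or.inl rfl
  mul_mem' := by
    have h1 : a * (a * b) = b := by rw [← mul_assoc, ha, one_mul]
    have h2 : b * (a * b) = a := by rw [hab, ← mul_assoc, hb, one_mul]
    have h3 : a * b * a = b := by rw [hab, mul_assoc, ha, mul_one]
    have h4 : a * b * b = a := by rw [mul_assoc, hb, mul_one]
    have h5 : a * b * (a * b) = 1 := by rw [← mul_assoc, h3, hb]
    rintro x y (rfl | rfl | rfl | rfl) (rfl | rfl | rfl | rfl)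
    · exact Or.inl (one_mul 1)
    · exact Or.inr (Or.inl (one_mul _))
    · exact Or.inr (Or.inr (Or.inl (one_mul _)))
    · exact Or.inr (Or.inr (Or.inr (one_mul _)))
    · exact Or.inr (Or.inl (mul_one _))
    · exact Or.inl ha
    · exact Or.inr (Or.inr (Or.inr rfl))
    · exact Or.inr (Or.inr (Or.inl h1))
    · exact Or.inr (Or.inr (Or.inl (mul_one _)))
    · exact Or.inr (Or.inr (Or.inr hab.symm))
    · exact Or.inl hb
    · exact Or.inr (Or.inl h2)
    · exact Or.inr (Or.inr (Or.inr (mul_one _)))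
    · exact Or.inr (Or.inr (Or.inl h3))
    · exact Or.inr (Or.inl h4)
    · exact Or.inl h5
  inv_mem' := by
    have h5 : a * b * (a * b) = 1 := by
      have h3 : a * b * a = b := by rw [hab, mul_assoc, ha, mul_one]
      rw [← mul_assoc, h3, hb]
    rintro x (rfl | rfl | rfl | rfl)
    · exact Or.inl inv_one
    · exact Or.inr (Or.inl (inv_eq_of_mul_eq_one_left ha))
    · exact Or.inr (Or.inr (Or.inl (inv_eq_of_mul_eq_one_left hb)))
    · exact Or.inr (Or.inr (Or.inr (inv_eq_of_mul_eq_one_left h5)))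

theorem mem_four {G : Type*} [Group G] {a b : G} {ha : a * a = 1} {hb : b * b = 1} {hab : a * b = b * a} {x : G} :
    x ∈ four a b ha hb hab ↔ x = 1 ∨ x = a ∨ x = b ∨ x = a * b := Iff.rfl

theorem four_two {G : Type*} [Group G] {a b : G} (ha : a * a = 1) (hb : b * b = 1) (hab : a * b = b * a) :
    IsPGroup 2 (four a b ha hb hab) := by
  have h5 : a * b * (a * b) = 1 := by
    have h3 : a * b * a = b := by rw [hab, mul_assoc, ha, mul_one]
    rw [← mul_assoc, h3, hb]
  rintro ⟨x, hx⟩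
  refine ⟨1, Subtype.ext ?_⟩
  show x ^ (2 ^ 1) = 1
  rw [pow_one, pow_two]
  rcases mem_four.1 hx with rfl | rfl | rfl | rfl
  · exact one_mul 1
  · exact ha
  · exact hb
  · exact h5

/-- an element which permutes `a, b, a b` cyclically normalizes `⟨a, b⟩` -/
theorem norm_four {G : Type*} [Group G] {a b : G} (ha : a * a = 1) (hb : b * b = 1) (hab : a * b = b * a) {h : G}
    (h1 : h * a * h⁻¹ = a ∧ h * b * h⁻¹ = b ∨ h * a * h⁻¹ = b ∧ h * b * h⁻¹ = a * b) (h3 : h ^ 3 = 1) :
    h ∈ Subgroup.normalizer (four a b ha hb hab : Set G) := by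
  have key : ∀ x, x ∈ four a b ha hb hab → h * x * h⁻¹ ∈ four a b ha hb hab := by
    intro x hx
    have e : h * (a * b) * h⁻¹ = (h * a * h⁻¹) * (h * b * h⁻¹) := by group
    rcases mem_four.1 hx with rfl | rfl | rfl | rfl
    · rw [mul_one, mul_inv_cancel]; exact Or.inl rfl
    · rcases h1 with h1 | h1
      · rw [h1.1]; exact Or.inr (Or.inl rfl)
      · rw [h1.1]; exact Or.inr (Or.inr (Or.inl rfl))
    · rcases h1 with h1 | h1
      · rw [h1.2]; exact Or.inr (Or.inr (Or.inl rfl))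
      · rw [h1.2]; exact Or.inr (Or.inr (Or.inr rfl))
    · rcases h1 with h1 | h1
      · rw [e, h1.1, h1.2]; exact Or.inr (Or.inr (Or.inr rfl))
      · rw [e, h1.1, h1.2]
        refine Or.inr (Or.inl ?_)
        rw [hab, ← mul_assoc, hb, one_mul]
  rw [Subgroup.mem_normalizer_iff]
  intro x
  refine ⟨key x, fun hx => ?_⟩
  have h4 := key _ (key _ hx)
  have e : h * (h * (h * x * h⁻¹) * h⁻¹) * h⁻¹ = (h * h * h) * x * (h * h * h)⁻¹ := by group
  have h5 : h * h * h = 1 := by rw [← h3, pow_succ, pow_two]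
  rw [e, h5, one_mul, inv_one, mul_one] at h4
  exact h4

/-- the first element of the four-group -/
def pa : Perm (Fin 13) := swap 0 1 * swap 2 3
/-- the second element of the four-group -/
def pb : Perm (Fin 13) := swap 1 2 * swap 0 3
/-- the 3-cycles -/
def ph : Fin 4 → Perm (Fin 13) := ![swap 0 1 * swap 1 2, swap 4 5 * swap 5 6, swap 7 8 * swap 8 9,
  swap 10 11 * swap 11 12]
/-- elements detecting the 3-cycles -/
def pl : Fin 4 → Perm (Fin 13) := ![swap 0 1 * swap 2 3, swap 3 4 * swap 5 6, swap 3 7 * swap 8 9,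
  swap 3 10 * swap 11 12]

theorem pa_sq : pa * pa = 1 := by decide
theorem pb_sq : pb * pb = 1 := by decide
theorem pab : pa * pb = pb * pa := by decide
theorem pa_ne : pa ≠ 1 := by decide
theorem ph_comm : ∀ i j, ph i * ph j = ph j * ph i := by decide
theorem ph_cube : ∀ i, ph i ^ 3 = 1 := by decide
theorem ph_pl : ∀ i, ph i * pl i ≠ pl i * ph i := by decide
theorem ph_pl' : ∀ i j, i ≠ j → ph i * pl j = pl j * ph i := by decide
theorem ph_norm : ∀ i, (ph i * pa * (ph i)⁻¹ = pa ∧ ph i * pb * (ph i)⁻¹ = pb) ∨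
    (ph i * pa * (ph i)⁻¹ = pb ∧ ph i * pb * (ph i)⁻¹ = pa * pb) := by decide

theorem mem_alt {i j k l : Fin 13} (h1 : i ≠ j) (h2 : k ≠ l) :
    (swap i j * swap k l : Perm (Fin 13)) ∈ alternatingGroup (Fin 13) := by
  rw [Equiv.Perm.mem_alternatingGroup, Equiv.Perm.sign_mul, Equiv.Perm.sign_swap h1, Equiv.Perm.sign_swap h2]
  norm_num

theorem pa_mem : pa ∈ alternatingGroup (Fin 13) := mem_alt (by decide) (by decide)
theorem pb_mem : pb ∈ alternatingGroup (Fin 13) := mem_alt (by decide) (by decide)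
theorem ph_mem (i : Fin 4) : ph i ∈ alternatingGroup (Fin 13) := by
  fin_cases i <;> exact mem_alt (by decide) (by decide)
theorem pl_mem (i : Fin 4) : pl i ∈ alternatingGroup (Fin 13) := by
  fin_cases i <;> exact mem_alt (by decide) (by decide)

theorem wit13 : Wit 3 4 (alternatingGroup (Fin 13)) := by
  have ha : (⟨pa, pa_mem⟩ : alternatingGroup (Fin 13)) * ⟨pa, pa_mem⟩ = 1 := Subtype.ext pa_sq
  have hb : (⟨pb, pb_mem⟩ : alternatingGroup (Fin 13)) * ⟨pb, pb_mem⟩ = 1 := Subtype.ext pb_sq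
  have hab : (⟨pa, pa_mem⟩ : alternatingGroup (Fin 13)) * ⟨pb, pb_mem⟩ = ⟨pb, pb_mem⟩ * ⟨pa, pa_mem⟩ :=
    Subtype.ext pab
  have h3 : ∀ i, (⟨ph i, ph_mem i⟩ : alternatingGroup (Fin 13)) ^ 3 = 1 := fun i => Subtype.ext (ph_cube i)
  refine Wit.of_family Nat.prime_three (fun i => ⟨ph i, ph_mem i⟩) (fun i => ⟨pl i, pl_mem i⟩)
    (fun i j => Subtype.ext (ph_comm i j)) h3 ?_ (fun i j hij => Subtype.ext (ph_pl' i j hij))
    (four _ _ ha hb hab) (four_two ha hb hab) ?_ ?_
  · intro i hi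
    exact ph_pl i (congrArg (fun x : alternatingGroup (Fin 13) => (x : Perm (Fin 13))) hi)
  · intro h0
    have h1 : (⟨pa, pa_mem⟩ : alternatingGroup (Fin 13)) ∈ four _ _ ha hb hab := Or.inr (Or.inl rfl)
    rw [h0, Subgroup.mem_bot] at h1
    exact pa_ne (congrArg (fun x : alternatingGroup (Fin 13) => (x : Perm (Fin 13))) h1)
  · intro i
    refine norm_four ha hb hab ?_ (h3 i)
    rcases ph_norm i with h | h
    · exact Or.inl ⟨Subtype.ext h.1, Subtype.ext h.2⟩
    · exact Or.inr ⟨Subtype.ext h.1, Subtype.ext h.2⟩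

/-- `A₁₃ → A_n`, `n ≥ 13` -/
theorem exists_hom {n : ℕ} (hn : 13 ≤ n) :
    ∃ f : alternatingGroup (Fin 13) →* alternatingGroup (Fin n), Function.Injective f := by
  classical
  let i : Fin 13 ↪ Fin n := (Fin.castLEEmb hn)
  refine ⟨{ toFun := fun g => ⟨(g : Perm (Fin 13)).viaFintypeEmbedding i, ?_⟩, map_one' := ?_, map_mul' := ?_ }, ?_⟩
  · rw [Equiv.Perm.mem_alternatingGroup, Equiv.Perm.viaFintypeEmbedding_sign]
    exact Equiv.Perm.mem_alternatingGroup.1 g.2
  · refine Subtype.ext ?_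
    ext x
    by_cases hx : x ∈ Set.range i
    · obtain ⟨y, rfl⟩ := hx
      simp
    · simp [Equiv.Perm.viaFintypeEmbedding_apply_notMem_range _ _ hx]
  · intro g g'
    refine Subtype.ext ?_
    ext x
    by_cases hx : x ∈ Set.range i
    · obtain ⟨y, rfl⟩ := hx
      simp
    · simp [Equiv.Perm.viaFintypeEmbedding_apply_notMem_range _ _ hx]
  · intro g g' hgg
    refine Subtype.ext ?_
    ext x
    have h1 := congrArg (fun z : alternatingGroup (Fin n) => (z : Perm (Fin n)) (i x)) hgg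
    simp only [MonoidHom.coe_mk, OneHom.coe_mk, Equiv.Perm.viaFintypeEmbedding_apply_image] at h1
    exact congrArg Fin.val (i.injective h1)

/-- **(W) for the alternating groups.** -/
theorem wide_alt : Wide4.{u} (fun X _ => Alt (fun n => 13 ≤ n) X) := by
  rintro G _ _ ⟨n, hn, ⟨e⟩⟩
  obtain ⟨f, hf⟩ := exists_hom hn
  exact ((wit13.of_injective f hf).congr e.symm).not_odd Nat.prime_three (by norm_num)

end Cfsg.Agent.BiChar.AltWide
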